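import Cfsg.Agent.Lib.JComp78.Pair

/-!
# The 2-local subgroups `N(A) ∩ H` of a subgroup `H` containing the odd order elements
-/

set_option autoImplicit false

namespace Cfsg.Agent.Lib.JComp78

open Subgroup
open Cfsg.Agent.Lib.JComp
open scoped commutatorElement IsMulCommutative

variable {G : Type*} [Group G] [Finite G] {T A B : Subgroup G}

theorem le_closure_odd {x w : G} (s : Side T A x w) :
    A ≤ closure {g : G | Odd (orderOf g)} := by
  conv_lhs => rw [← s.comp.1]
  exact closure_mono fun g hg => hg.2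

theorem two_eq (a b : Multiplicative (ZMod 2)) : a ≠ 1 → b ≠ 1 → a = b := by
  revert a b; decide

/-- The centre of the symmetric group of degree four is trivial. -/
theorem perm_four_center (σ : Equiv.Perm (Fin 4)) (h : ∀ τ, σ * τ = τ * σ) : σ = 1 := by
  revert σ; decide

/-- `N(A) ∩ H` is `S₄`, where `H` is generated by the elements of odd order. -/
theorem inf_odd_iso (hG : ZNGroup G) (S : Sylow 2 G) (hTS : T ≤ (S : Subgroup G))
    (gA : Good T A) (gB : Good T B) (hnc : ¬ wOf A ≤ centralizer (wOf B : Set G)) :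
    Nonempty (↥((normalizer (A : Set G)).subgroupOf (closure {g : G | Odd (orderOf g)})) ≃*
      Equiv.Perm (Fin 4)) ∧
    (T ⊓ centralizer (wOf A : Set G)) ⊓ closure {g : G | Odd (orderOf g)} ≤ wOf A ∧
    Nat.card ↥(T.subgroupOf (closure {g : G | Odd (orderOf g)})) = 8 := by
  classical
  have : Fact (Nat.Prime 2) := ⟨Nat.prime_two⟩
  have f := amalFacts gA gB hnc
  obtain ⟨x, w, sa⟩ := gA.exists_side
  obtain ⟨y, w', sb⟩ := gB.exists_side
  set H := closure {g : G | Odd (orderOf g)} with hH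
  set QA := T ⊓ centralizer (wOf A : Set G) with hQA
  set L := normalizer (A : Set G) with hL
  have hAH : A ≤ H := le_closure_odd sa
  have hWAH : wOf A ≤ H := (wOf_le_self A).trans hAH
  have hWBH : wOf B ≤ H := (wOf_le_self B).trans (le_closure_odd sb)
  obtain ⟨hi4, hi8⟩ := normalizer_iso hG gA gB hnc
  -- the projection on `S₄` is injective on `L ∩ H`; `Q ∩ H = W`; `T ≰ H` in the big case
  have key : ∃ ψ : ↥(L.subgroupOf H) →* Equiv.Perm (Fin 4), Function.Injective ψ ∧
      QA ⊓ H ≤ wOf A ∧ (Nat.card T = 8 ∨ Nat.card T = 16 ∧ ¬ T ≤ H) := by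
    let ι : ↥(L.subgroupOf H) →* L :=
      (H.subtype.comp (L.subgroupOf H).subtype).codRestrict L fun z => mem_subgroupOf.1 z.2
    have hι : Function.Injective ι := fun a b e => Subtype.ext (Subtype.ext (congrArg Subtype.val e :))
    rcases f.card_cases with h | h
    · obtain ⟨e⟩ := hi4 h
      refine ⟨e.toMonoidHom.comp ι, e.injective.comp hι, ?_, Or.inl (by rw [sa.card_T, h])⟩
      exact inf_le_left.trans (eq_of_le_of_card_ge gA.wOf_le.1
        (by rw [← hQA, h, sa.comp.2.2.2.2.1])).ge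
    · obtain ⟨e⟩ := hi8 h
      obtain ⟨c, hc, hcW, hC⟩ := exists_fixed hG gA gB hnc h
      have hcH : c ∉ H := fixed_notMem_odd hG S hTS gA gB hnc h hc hcW hC
      have hcL : c ∈ L := gA.le_norm hc.1.1
      have hcc : ∀ l : L, l * ⟨c, hcL⟩ = ⟨c, hcL⟩ * l := fun l => Subtype.ext
        (mem_centralizer_singleton_iff.1 (hC.ge l.2))
      have he1 : (e ⟨c, hcL⟩).1 = 1 := perm_four_center _ fun τ => by
        have h1 := congrArg e (hcc (e.symm (τ, 1)))
        rw [map_mul, map_mul, e.apply_symm_apply] at h1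
        exact (congrArg Prod.fst h1).symm
      have hne : (e ⟨c, hcL⟩).2 ≠ 1 := fun h2 => hcW (by
        have h3 : (⟨c, hcL⟩ : L) = 1 := e.injective (by rw [map_one]; exact Prod.ext he1 h2)
        rw [show c = 1 from congrArg Subtype.val h3]
        exact one_mem _)
      refine ⟨(MonoidHom.fst _ _).comp (e.toMonoidHom.comp ι), ?_, ?_,
        Or.inr ⟨by rw [sa.card_T, h], fun hle => hcH (hle hc.1.1)⟩⟩
      · rw [injective_iff_map_eq_one]
        intro z hz
        have hz1 : (e (ι z)).1 = 1 := hz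
        by_contra hne'
        have hz2 : (e (ι z)).2 ≠ 1 := fun h2 => hne' (hι (e.injective (by
          rw [map_one, map_one]; exact Prod.ext hz1 h2)))
        have heq : ι z = ⟨c, hcL⟩ :=
          e.injective (Prod.ext (hz1.trans he1.symm) (two_eq _ _ hz2 hne))
        exact hcH ((show ((z : H) : G) = c from congrArg Subtype.val heq) ▸ z.1.2)
      · intro z hz
        by_contra hzW
        have hW : wOf A ≤ QA := gA.wOf_le.1
        have hidx : ((wOf A).subgroupOf QA).index = 2 := by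
          have h1 := relIndex_mul_relIndex ⊥ (wOf A) QA bot_le hW
          rw [relIndex_bot_left, relIndex_bot_left, sa.comp.2.2.2.2.1, hQA, h] at h1
          show (wOf A).relIndex QA = 2
          rw [hQA]
          omega
        have h2 := (mul_mem_iff_of_index_two hidx (a := ⟨c, hc.1⟩) (b := ⟨z, hz.1⟩)).2
          ⟨fun h1 => absurd h1 hcW, fun h1 => absurd h1 hzW⟩
        refine hcH ?_
        have h3 := H.mul_mem (hWAH h2) (H.inv_mem hz.2)
        change c * z * z⁻¹ ∈ H at h3
        rwa [mul_inv_cancel_right] at h3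
  obtain ⟨ψ, hψ, hQH, hT⟩ := key
  refine ⟨?_, hQH, ?_⟩
  rotate_left
  all_goals
    have hT8 : Nat.card ↥(T.subgroupOf H) = 8 := by
      rw [← card_map_of_injective H.subtype_injective, subgroupOf_map_subtype]
      have hnc' : ¬ wOf B ≤ centralizer (wOf A : Set G) := fun h => hnc (le_centralizer_iff.1 h)
      obtain ⟨v, hv, hvA⟩ := SetLike.not_le_iff_exists.1 hnc'
      have h1 : 2 * Nat.card ↥(wOf A) ≤ Nat.card ↥(T ⊓ H) :=
        two_mul_card_le (le_inf sa.W_le hWAH) ⟨sb.W_le hv, hWBH hv⟩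
          fun h => hvA (mem_centralizer_iff.2 fun _ h' => sa.W_comm h' h)
      rw [sa.comp.2.2.2.2.1] at h1
      have h2 := card_le_of_le (inf_le_left : T ⊓ H ≤ T)
      rcases hT with h | ⟨h, hle⟩
      · omega
      · obtain ⟨k, hk⟩ := card_dvd_of_le (inf_le_left : T ⊓ H ≤ T)
        rw [h] at hk
        have hk1 : k ≠ 1 := fun e => hle (inf_eq_left.1 (eq_of_le_of_card_ge inf_le_left
          (by rw [h, hk, e, mul_one])))
        have hk2 : k ≠ 0 := fun e => by simp [e] at hk
        have := Nat.mul_le_mul_left (Nat.card ↥(T ⊓ H)) (show 2 ≤ k by omega)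
        omega
  · exact hT8
  have hperm : Nat.card (Equiv.Perm (Fin 4)) = 24 := by
    rw [Nat.card_eq_fintype_card, Fintype.card_perm, Fintype.card_fin]; rfl
  refine ⟨MulEquiv.ofBijective ψ ((Nat.bijective_iff_injective_and_card ψ).2 ⟨hψ, ?_⟩)⟩
  have h1 := Nat.card_le_card_of_injective ψ hψ
  have h8 : 8 ∣ Nat.card ↥(L.subgroupOf H) :=
    hT8 ▸ card_dvd_of_le (comap_mono gA.le_norm)
  have h3 : 3 ∣ Nat.card ↥(L.subgroupOf H) := by
    have : Fact (Nat.Prime 3) := ⟨Nat.prime_three⟩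
    have hx : orderOf x = 3 := orderOf_eq_prime sa.x_pow fun e => sa.x_not (e ▸ one_mem _)
    have hd := orderOf_dvd_natCard
      (⟨⟨x, hAH sa.x_mem⟩, mem_subgroupOf.2 (Subgroup.le_normalizer sa.x_mem)⟩ : L.subgroupOf H)
    rwa [← Subgroup.orderOf_coe, ← Subgroup.orderOf_coe, hx] at hd
  have h24 : 24 ∣ Nat.card ↥(L.subgroupOf H) :=
    Nat.Coprime.mul_dvd_of_dvd_of_dvd (show Nat.Coprime 8 3 by norm_num) h8 h3
  have := Nat.le_of_dvd Nat.card_pos h24
  omega

/-- `N(A) ∩ H` is a maximal 2-local subgroup of `H`. -/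
theorem inf_odd_maximal (hG : ZNGroup G) (S : Sylow 2 G) (hTS : T ≤ (S : Subgroup G))
    (gA : Good T A) (gB : Good T B) (hnc : ¬ wOf A ≤ centralizer (wOf B : Set G)) :
    IsMaximalTwoLocal ((normalizer (A : Set G)).subgroupOf (closure {g : G | Odd (orderOf g)})) := by
  have : Fact (Nat.Prime 2) := ⟨Nat.prime_two⟩
  obtain ⟨-, hQH, -⟩ := inf_odd_iso hG S hTS gA gB hnc
  have f := amalFacts gA gB hnc
  obtain ⟨x, w, s⟩ := gA.exists_side
  set H := closure {g : G | Odd (orderOf g)} with hH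
  set L := normalizer (A : Set G) with hL
  set W := wOf A with hW
  have hWH : W ≤ H := (wOf_le_self A).trans (le_closure_odd s)
  have hWp : IsPGroup 2 W := s.isPGroup.to_le s.W_le
  have hWL : W ≤ L := s.W_le.trans gA.le_norm
  have hNW : normalizer (W : Set G) = L :=
    gA.uq.maximal.2 _ (isTwoLocal_normalizer hWp (wOf_ne_bot s.comp)) (le_normalizer_wOf le_rfl)
  refine ⟨⟨W.subgroupOf H, hWp.comap_of_injective _ H.subtype_injective, ?_, ?_⟩, ?_⟩
  · intro e
    rw [subgroupOf_eq_bot, disjoint_iff, inf_eq_left.2 hWH] at e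
    exact wOf_ne_bot s.comp e
  · rw [← subgroupOf_normalizer_eq hWH, hNW]
  rintro X ⟨Q₀, hQ₀p, hQ₀1, rfl⟩ hle
  refine le_antisymm (fun n hn => mem_subgroupOf.2 ?_) hle
  set Q := Q₀.map H.subtype with hQdef
  have hQH' : Q ≤ H := map_subtype_le _
  have hQp : IsPGroup 2 Q := hQ₀p.map _
  have hQ1 : Q ≠ ⊥ := fun e => hQ₀1 ((map_eq_bot_iff_of_injective _ H.subtype_injective).1 e)
  have hconj : ∀ m : H, m ∈ normalizer (Q₀ : Set H) → (m : G) ∈ normalizer (Q : Set G) := by
    intro m hm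
    refine mem_normalizer_of_map_le ?_
    rintro _ ⟨_, ⟨q, hq, rfl⟩, rfl⟩
    exact ⟨m * q * m⁻¹, conj_mem le_rfl hm hq, rfl⟩
  have hnorm : ∀ g ∈ H, g ∈ L → g ∈ normalizer (Q : Set G) := fun g hg hgL =>
    hconj ⟨g, hg⟩ (hle (mem_subgroupOf.2 hgL))
  have hWQ : W ≤ normalizer (Q : Set G) := fun g hg => hnorm g (hWH hg) (hWL hg)
  have hxQ : x ∈ normalizer (Q : Set G) :=
    hnorm x (le_closure_odd s s.x_mem) (Subgroup.le_normalizer s.x_mem)
  -- the centralizer of `W` in `L ∩ H` is `W`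
  have hCW : ∀ z, z ∈ L → z ∈ H → z ∈ centralizer (W : Set G) → z ∈ W := fun z hzL hzH hzC =>
    hQH ⟨(inf_centralizer_wOf_eq_Q hG gA s f.elem_left f.card_cases).le ⟨hzL, hzC⟩, hzH⟩
  -- `Q ∩ C(W)` is `W`
  have hC : Q ⊓ centralizer (W : Set G) = W := by
    refine eq_wOf_of_invariant s (fun z hz => hCW z ?_ (hQH' hz.1) hz.2) (fun e => ?_) ?_
    · rw [← hNW]; exact centralizer_le_normalizer _ hz.2
    · exact S2947.no_fixed hQp hWp hWQ hQ1 e
    · exact Coprime.le_normalizer_inf_centralizer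
        (L := normalizer (Q : Set G) ⊓ normalizer (W : Set G)) inf_le_left inf_le_right
        ⟨hxQ, s.x_norm_W⟩
  -- `Q` is `W`
  have hQW : Q ≤ W := by
    refine le_of_inf_normalizer_le hQp (hC ▸ inf_le_left) ?_
    set P := Q ⊓ normalizer (W : Set G) with hP
    have hPp : IsPGroup 2 P := hQp.to_le inf_le_left
    have hxP : x ∈ normalizer (P : Set G) := by
      refine mem_normalizer_of_map_le ?_
      rw [hP, Subgroup.map_inf _ _ _ (MulAut.conj x).injective]
      refine inf_le_inf (mem_normalizer_iff_map_conj_eq.1 hxQ).le ?_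
      exact (mem_normalizer_iff_map_conj_eq.1 (Subgroup.le_normalizer (s.x_norm_W))).le
    have hlt := Coprime.commutator_lt_of_isPGroup hWp hPp inf_le_right (wOf_ne_bot s.comp)
    have hbot : ⁅W, P⁆ = ⊥ := by
      by_contra h
      exact hlt.ne (eq_wOf_of_invariant s hlt.le h (Coprime.le_normalizer_commutator
        (L := normalizer (W : Set G) ⊓ normalizer (P : Set G)) inf_le_left inf_le_right
        ⟨s.x_norm_W, hxP⟩))
    have hPC : P ≤ centralizer (W : Set G) :=
      le_centralizer_iff.1 (commutator_eq_bot_iff_le_centralizer.1 hbot)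
    exact (le_inf inf_le_left hPC).trans hC.le
  have hQeq : Q = W := le_antisymm hQW (hC ▸ inf_le_left)
  rw [← hNW, ← hQeq]
  exact hconj n hn

end Cfsg.Agent.Lib.JComp78
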