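import Cfsg.Agent.Lib.JComp.Amalgam
import Cfsg.Agent.Lib.JComp.SymFour

/-!
# Small facts about one component at `T`
-/

set_option autoImplicit false

namespace Cfsg.Agent.Lib.JComp78

open Subgroup
open Cfsg.Agent.Lib.JComp
open scoped commutatorElement IsMulCommutative

variable {G : Type*} [Group G] [Finite G] {T A : Subgroup G} {x w : G}

theorem eq_one_or_w_of_central (s : Side T A x w) {u : G} (hu : u ∈ wOf A)
    (hc : u ∈ centralizer (T : Set G)) : u = 1 ∨ u = w := by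
  by_contra h
  push Not at h
  obtain ⟨t, ht, htQ⟩ := s.exists_J_not_mem
  have htT := Thompson.thompsonSubgroupOf_le 2 T ht
  exact htQ ((s.mem_Q_iff hu h.1 h.2 htT).2
    (mul_inv_eq_iff_eq_mul.2 (mem_centralizer_iff.1 hc t htT)))

/-- A nontrivial subgroup of `W` invariant under `x` is `W`. -/
theorem eq_wOf_of_invariant (s : Side T A x w) {V : Subgroup G} (hV : V ≤ wOf A) (hV1 : V ≠ ⊥)
    (hx : x ∈ normalizer (V : Set G)) : V = wOf A := by
  classical
  obtain ⟨z, hz, hz1⟩ : ∃ z ∈ V, z ≠ 1 := by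
    by_contra h
    push Not at h
    exact hV1 ((eq_bot_iff_forall _).2 h)
  have hz' : x * z * x⁻¹ ∈ V := conj_mem le_rfl hx hz
  refine eq_of_le_of_card_ge hV ?_
  rw [s.comp.2.2.2.2.1]
  have h3 : 3 ≤ Nat.card V := by
    let := Fintype.ofFinite V
    have hc : ({1, ⟨z, hz⟩, ⟨x * z * x⁻¹, hz'⟩} : Finset V).card ≤ Nat.card V := by
      rw [Nat.card_eq_fintype_card]; exact Finset.card_le_univ _
    have e1 : x * z * x⁻¹ ≠ 1 := fun e => hz1 (conj_eq_one_iff.1 e)
    have e2 := s.conj_x_not_mem (hV hz) hz1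
    rw [Finset.card_insert_of_notMem (by
        simp [Subtype.ext_iff, Ne.symm hz1, e1.symm, -conj_eq_one_iff]),
      Finset.card_insert_of_notMem (by simp [Subtype.ext_iff, e2.symm]),
      Finset.card_singleton] at hc
    exact hc
  have hdvd := card_dvd_of_le hV
  rw [s.comp.2.2.2.2.1] at hdvd
  obtain ⟨k, hk⟩ := hdvd
  have : k ≠ 0 := fun e => by simp [e] at hk
  rcases Nat.lt_or_ge k 2 with hk2 | hk2
  · have : k = 1 := by omega
    subst this
    omega
  · have := Nat.mul_le_mul_left (Nat.card V) hk2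
    omega

/-- The elements of `W` other than 1 are conjugate to `w`. -/
theorem exists_conj_eq_w (s : Side T A x w) {z : G} (hz : z ∈ wOf A) (hz1 : z ≠ 1) :
    ∃ g : G, g * z * g⁻¹ = w := by
  have hu : x * w * x⁻¹ ∈ wOf A := conj_mem le_rfl s.x_norm_W s.w_mem
  have hu1 : x * w * x⁻¹ ≠ 1 := fun e => s.w_ne (conj_eq_one_iff.1 e)
  have huw := s.conj_x_not_mem s.w_mem s.w_ne
  have hv : x⁻¹ * w * x ∈ wOf A := by
    simpa using conj_mem le_rfl (inv_mem s.x_norm_W) s.w_mem
  rcases s.W_cases hu hu1 huw hz with rfl | rfl | rfl | rfl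
  · exact absurd rfl hz1
  · exact ⟨1, by simp⟩
  · exact ⟨x⁻¹, by group⟩
  · refine ⟨x, ?_⟩
    rcases s.W_cases hu hu1 huw hv with e | e | e | e
    · exact absurd ((MulAut.conj x⁻¹).injective (a₂ := 1) (by simpa using e)) s.w_ne
    · exact absurd (show x⁻¹ * w * x⁻¹⁻¹ = w by simpa using e) (s.inv.conj_x_not_mem s.w_mem s.w_ne)
    · refine absurd (?_ : x⁻¹ * w * x⁻¹⁻¹ = w) (s.inv.conj_x_not_mem s.w_mem s.w_ne)
      have hxx : x * x = x⁻¹ :=
        (inv_eq_of_mul_eq_one_right (by rw [← pow_three]; exact s.x_pow)).symm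
      calc x⁻¹ * w * x⁻¹⁻¹ = (x * x) * w * (x * x)⁻¹ := by rw [hxx]
        _ = x * (x * w * x⁻¹) * x⁻¹ := by group
        _ = w := by rw [← e]; group
    · rw [← e]; group

theorem wOf_le_self (A : Subgroup G) : wOf A ≤ A :=
  (wOf_le_pCoreOf A).trans (CharP.pCoreOf_le A)

/-- An element of `Q_A ∩ Q_B` fixed by `x` is centralised by exactly `N(A)`. -/
theorem centralizer_eq (hG : ZNGroup G) (g : Good T A) (s : Side T A x w)
    (hQ : IsElementaryAbelian 2 (T ⊓ centralizer (wOf A : Set G)))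
    (hcard : Nat.card ↥(T ⊓ centralizer (wOf A : Set G)) = 4 ∨
      Nat.card ↥(T ⊓ centralizer (wOf A : Set G)) = 8)
    {c : G} (hc : c ∈ T ⊓ centralizer (wOf A : Set G)) (hcT : c ∈ centralizer (T : Set G))
    (hxc : x * c * x⁻¹ = c) (hc1 : c ≠ 1) :
    centralizer ({c} : Set G) = normalizer (A : Set G) := by
  have hA : A ≤ centralizer ({c} : Set G) := by
    rw [← eq_sup_zpowers s.comp s.x_mem s.x_not]
    refine sup_le (fun r hr => mem_centralizer_singleton_iff.2 ?_) (zpowers_le.2 ?_)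
    · exact ElemAbelian.comm hQ (s.core_le_Q hr) hc
    · exact mem_centralizer_singleton_iff.2 (mul_inv_eq_iff_eq_mul.1 hxc)
  have hT : T ≤ centralizer ({c} : Set G) := fun t ht =>
    mem_centralizer_singleton_iff.2 (mem_centralizer_iff.1 hcT t ht)
  refine le_antisymm (g.uq.centralizer_le hc1 (hQ.2 c hc) hA
    ((Thompson.thompsonSubgroupOf_le 2 T).trans hT)) ?_
  rw [g.normalizer_eq_sup s hQ hcard hG]
  exact sup_le hA hT

/-- The centralizer of `W` in `N(A)` is `Q`. -/
theorem inf_centralizer_wOf_eq_Q (hG : ZNGroup G) (g : Good T A) (s : Side T A x w)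
    (hQ : IsElementaryAbelian 2 (T ⊓ centralizer (wOf A : Set G)))
    (hcard : Nat.card ↥(T ⊓ centralizer (wOf A : Set G)) = 4 ∨
      Nat.card ↥(T ⊓ centralizer (wOf A : Set G)) = 8) :
    normalizer (A : Set G) ⊓ centralizer (wOf A : Set G) = T ⊓ centralizer (wOf A : Set G) := by
  have : Fact (Nat.Prime 2) := ⟨Nat.prime_two⟩
  refine le_antisymm ?_ (le_inf (inf_le_left.trans g.le_norm) inf_le_right)
  rw [g.core]
  refine CharP.le_pCoreOf inf_le_left (CharP.isPGroup_of_forall fun y hy hyo => ?_)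
    (Coprime.le_normalizer_inf_centralizer Subgroup.le_normalizer (le_normalizer_wOf le_rfl))
  have hyA : y ∈ A := by
    have h := g.normalizer_eq_sup s hQ hcard hG ▸ hy.1
    exact mem_of_odd_sup g.uq.isPGroup g.le_norm h (Nat.coprime_two_right.1 hyo)
  have hyR : y ∈ pCoreOf 2 A := by
    rw [← inf_centralizer_wOf_eq s.comp]; exact ⟨hyA, hy.2⟩
  exact CharP.eq_one_of_mem_of_coprime (CharP.pCoreOf_isPGroup A) hyR hyo

end Cfsg.Agent.Lib.JComp78
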