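import Mathlib

/-!
# Transfer to an abelian quotient of order dividing four
-/

set_option autoImplicit false

namespace Cfsg.Agent.Lib.JComp78

variable {G : Type*} [Group G] [Finite G]

theorem comm_of_card_dvd_four {Q : Type*} [Group Q] [Finite Q] (h : Nat.card Q ∣ 4) (a b : Q) :
    a * b = b * a := by
  have : Fact (Nat.Prime 2) := ⟨Nat.prime_two⟩
  have h4 : Nat.card Q ≤ 4 := Nat.le_of_dvd (by norm_num) h
  have h0 : 0 < Nat.card Q := Nat.card_pos
  rcases (show Nat.card Q = 1 ∨ Nat.card Q = 2 ∨ Nat.card Q = 4 by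
    interval_cases Nat.card Q <;> omega) with e | e | e
  · have := (Nat.card_eq_one_iff_unique.1 e).1
    exact Subsingleton.elim _ _
  · have := isCyclic_of_prime_card e
    exact IsMulCommutative.is_comm.comm a b
  · exact (IsPGroup.isMulCommutative_of_card_eq_prime_sq (p := 2) (by rw [e]; rfl)).is_comm.comm a b

theorem transfer_of_conj_const {A : Type*} [CommGroup A] (U : Subgroup G) (f : U →* A) {x : G}
    {a : A} (hx : x * x = 1) (ha : a * a = 1)
    (hfx : ∀ g : G, ∀ h : g⁻¹ * x * g ∈ U, f ⟨g⁻¹ * x * g, h⟩ = a) :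
    f.transfer x = a ^ U.index := by
  classical
  have : Fintype (Quotient (MulAction.orbitRel (Subgroup.zpowers x) (G ⧸ U))) := Fintype.ofFinite _
  rw [MonoidHom.transfer_eq_prod_quotient_orbitRel_zpowers_quot]
  set len : Quotient (MulAction.orbitRel (Subgroup.zpowers x) (G ⧸ U)) → ℕ :=
    fun q => Function.minimalPeriod (x • ·) q.out with hlen
  have hsum : ∑ q, len q = U.index := by
    have := Fintype.ofFinite (G ⧸ U)
    rw [Subgroup.index_eq_card, Nat.card_congr (Subgroup.quotientEquivSigmaZMod U x), Nat.card_sigma]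
    exact Finset.sum_congr rfl fun q _ => (Nat.card_zmod _).symm
  rw [Finset.prod_congr rfl (g := fun q => a ^ len q)]
  · rw [Finset.prod_pow_eq_pow_sum, hsum]
  intro q _
  set v := q.out with hv
  have hper : len q = 1 ∨ len q = 2 := by
    have h2 : Function.IsPeriodicPt (x • ·) 2 v := by
      show (x • ·)^[2] v = v
      rw [smul_iterate]
      show x ^ 2 • v = v
      rw [pow_two, hx, one_smul]
    exact (Nat.dvd_prime Nat.prime_two).1 h2.minimalPeriod_dvd
  rcases hper with h1 | h1
  · rw [h1, pow_one]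
    have hmem : v.out⁻¹ * x * v.out ∈ U := by
      have h := QuotientGroup.out_conj_pow_minimalPeriod_mem U x v
      rw [show Function.minimalPeriod (x • ·) v = 1 from h1, pow_one] at h
      exact h
    refine Eq.trans ?_ (hfx v.out hmem)
    congr 1
    apply Subtype.ext
    show v.out⁻¹ * x ^ Function.minimalPeriod (x • ·) v * v.out = v.out⁻¹ * x * v.out
    rw [show Function.minimalPeriod (x • ·) v = 1 from h1, pow_one]
  · rw [h1, pow_two, ha]
    refine Eq.trans ?_ f.map_one
    congr 1
    apply Subtype.ext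
    show v.out⁻¹ * x ^ Function.minimalPeriod (x • ·) v * v.out = 1
    rw [show Function.minimalPeriod (x • ·) v = 2 from h1, pow_two, hx, mul_one, inv_mul_cancel]

/-- An involution outside `N` all of whose conjugates in `U` lie in one coset of `N` is not a
product of elements of odd order. -/
theorem notMem_closure_odd (U : Subgroup G) (hU : Odd U.index) (N : Subgroup U) [N.Normal]
    (hN : Nat.card (U ⧸ N) ∣ 4) {c : G} (hc2 : c * c = 1) (hcU : c ∈ U)
    (hcN : (⟨c, hcU⟩ : U) ∉ N)
    (hall : ∀ g : G, ∀ h : g⁻¹ * c * g ∈ U, (⟨c, hcU⟩ : U)⁻¹ * ⟨g⁻¹ * c * g, h⟩ ∈ N) :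
    c ∉ Subgroup.closure {g : G | Odd (orderOf g)} := by
  letI : CommGroup (U ⧸ N) :=
    { (inferInstance : Group (U ⧸ N)) with mul_comm := comm_of_card_dvd_four hN }
  let f : U →* U ⧸ N := QuotientGroup.mk' N
  set a := f ⟨c, hcU⟩ with ha
  have ha2 : a * a = 1 := by
    rw [ha, ← map_mul]
    exact (congrArg f (Subtype.ext hc2)).trans f.map_one
  have htr : f.transfer c = a ^ U.index :=
    transfer_of_conj_const U f hc2 ha2 fun g h => (QuotientGroup.eq.2 (hall g h)).symm
  have hle : Subgroup.closure {g : G | Odd (orderOf g)} ≤ f.transfer.ker := by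
    rw [Subgroup.closure_le]
    intro g hg
    rw [SetLike.mem_coe, MonoidHom.mem_ker, ← orderOf_eq_one_iff]
    refine Nat.eq_one_of_dvd_coprimes (k := orderOf (f.transfer g)) ?_ (orderOf_map_dvd _ g)
      ((orderOf_dvd_natCard _).trans hN)
    exact (Nat.coprime_two_right.2 hg).pow_right 2
  intro hc
  have h1 : a ^ U.index = 1 := htr ▸ hle hc
  obtain ⟨m, hm⟩ := hU
  rw [hm, pow_succ, pow_mul, sq, ha2, one_pow, one_mul] at h1
  exact hcN ((QuotientGroup.eq_one_iff _).1 h1)

end Cfsg.Agent.Lib.JComp78
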