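import Cfsg.Agent.Lib.JComp.Main
import Cfsg.Agent.Lib.JComp78.Side
import Cfsg.Agent.Lib.JComp78.Transfer

/-!
# The central involution outside the subgroup generated by the elements of odd order

For the amalgam of two maximal 2-local subgroups isomorphic to `S₄ × C₂` at `T`, the centre of
either lies outside the subgroup generated by the elements of odd order.
-/

set_option autoImplicit false

namespace Cfsg.Agent.Lib.JComp78

open Subgroup
open Cfsg.Agent.Lib.JComp
open scoped commutatorElement IsMulCommutative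

variable {G : Type*} [Group G] [Finite G] {T A B : Subgroup G}

theorem not_le_normalizer (gA : Good T A) (gB : Good T B)
    (hnc : ¬ wOf A ≤ centralizer (wOf B : Set G)) : ¬ A ≤ normalizer (B : Set G) := fun h =>
  hnc ((gB.only A gA.uq.comp h) ▸ gB.wOf_le.2)

/-- An element of `Q_A ∩ Q_B` with centralizer `N(A)`. -/
theorem exists_fixed (hG : ZNGroup G) (gA : Good T A) (gB : Good T B)
    (hnc : ¬ wOf A ≤ centralizer (wOf B : Set G))
    (h8 : Nat.card ↥(T ⊓ centralizer (wOf A : Set G)) = 8) :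
    ∃ c, c ∈ (T ⊓ centralizer (wOf A : Set G)) ⊓ (T ⊓ centralizer (wOf B : Set G)) ∧
      c ∉ wOf A ∧ centralizer ({c} : Set G) = normalizer (A : Set G) := by
  have f := amalFacts gA gB hnc
  obtain ⟨x, w, sa⟩ := gA.exists_side
  obtain ⟨y, w', sb⟩ := gB.exists_side
  have hnc' : ¬ wOf B ≤ centralizer (wOf A : Set G) := fun h => hnc (le_centralizer_iff.1 h)
  obtain ⟨v, hv, hvA⟩ := SetLike.not_le_iff_exists.1 hnc'
  obtain ⟨-, hdec⟩ := pair_core sb sa hv (fun h => hvA h.2)
  obtain ⟨q, hq, hqW⟩ : ∃ q ∈ T ⊓ centralizer (wOf A : Set G), q ∉ wOf A :=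
    SetLike.not_le_iff_exists.1 fun h => by
      have := card_le_of_le h
      rw [h8, sa.comp.2.2.2.2.1] at this
      omega
  obtain ⟨u, hu, c, hcA, hcB, hxc, -, rfl⟩ := hdec q hq
  have hcW : c ∉ wOf A := fun h => hqW (mul_mem hu h)
  exact ⟨c, ⟨hcA, hcB⟩, hcW, centralizer_eq hG gA sa f.elem_left f.card_cases hcA
    (f.central ⟨hcA, hcB⟩) hxc fun e => hcW (e ▸ one_mem _)⟩

/-- The central involution of `N(A) ≅ S₄ × C₂` is not a product of elements of odd order. -/
theorem fixed_notMem_odd (hG : ZNGroup G) (S : Sylow 2 G) (hTS : T ≤ (S : Subgroup G))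
    (gA : Good T A) (gB : Good T B) (hnc : ¬ wOf A ≤ centralizer (wOf B : Set G))
    (h8 : Nat.card ↥(T ⊓ centralizer (wOf A : Set G)) = 8) {c : G}
    (hc : c ∈ (T ⊓ centralizer (wOf A : Set G)) ⊓ (T ⊓ centralizer (wOf B : Set G)))
    (hcW : c ∉ wOf A) (hC : centralizer ({c} : Set G) = normalizer (A : Set G)) :
    c ∉ closure {g : G | Odd (orderOf g)} := by
  classical
  have : Fact (Nat.Prime 2) := ⟨Nat.prime_two⟩
  have hnc' : ¬ wOf B ≤ centralizer (wOf A : Set G) := fun h => hnc (le_centralizer_iff.1 h)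
  have f := amalFacts gA gB hnc
  obtain ⟨c', hc', hc'W, hC'⟩ := exists_fixed hG gB gA hnc' (f.card_eq ▸ h8)
  rw [inf_comm] at hc'
  obtain ⟨x, w, sa⟩ := gA.exists_side
  obtain ⟨y, w', sb⟩ := gB.exists_side
  set QA := T ⊓ centralizer (wOf A : Set G) with hQA
  set QB := T ⊓ centralizer (wOf B : Set G) with hQB
  obtain ⟨v, hv, hvA⟩ := SetLike.not_le_iff_exists.1 hnc'
  obtain ⟨hww, -⟩ := pair_core sb sa hv (fun h => hvA h.2)
  subst hww
  have hT16 : Nat.card T = 16 := by rw [sa.card_T, h8]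
  have hWA : wOf A ≤ QA := gA.wOf_le.1
  have hWB : wOf B ≤ QB := gB.wOf_le.1
  have hZ : ∀ z ∈ T, z ∈ centralizer (T : Set G) → z ∈ QA ⊓ QB := fun z hz hzc =>
    ⟨⟨hz, centralizer_le (SetLike.coe_subset_coe.2 sa.W_le) hzc⟩,
      ⟨hz, centralizer_le (SetLike.coe_subset_coe.2 sb.W_le) hzc⟩⟩
  have hwZ : w' ∈ QA ⊓ QB := hZ w' (sa.W_le sa.w_mem) sa.w_central
  have hZcard : Nat.card ↥(QA ⊓ QB) = 4 := by
    have h1 : Nat.card ↥QA = 2 * Nat.card ↥(QA ⊓ QB) := f.card_inter
    omega
  have hcT : ∀ t ∈ T, t * c = c * t := fun t ht => mem_centralizer_iff.1 (f.central hc) t ht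
  have hc2 : c * c = 1 := by rw [← sq]; exact f.elem_left.2 c hc.1
  have hci : c⁻¹ = c := inv_eq_of_mul_eq_one_left hc2
  have hc1 : c ≠ 1 := fun e => hcW (e ▸ one_mem _)
  have hcw : c ≠ w' := fun e => hcW (e ▸ sa.w_mem)
  have hc'w : c' ≠ w' := fun e => hc'W (e ▸ sb.w_mem)
  have hc'1 : c' ≠ 1 := fun e => hc'W (e ▸ one_mem _)
  have hw2 : w' * w' = 1 := sa.W_sq sa.w_mem
  have hcc' : c ≠ c' := fun e => not_le_normalizer gA gB hnc (by
    rw [← hC', ← e, hC]; exact Subgroup.le_normalizer)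
  have hZcases : ∀ z ∈ QA ⊓ QB, z = 1 ∨ z = w' ∨ z = c ∨ z = c' := by
    intro z hz
    by_contra h
    push Not at h
    let := Fintype.ofFinite ↥(QA ⊓ QB)
    have hle : ({1, ⟨w', hwZ⟩, ⟨c, hc⟩, ⟨c', hc'⟩, ⟨z, hz⟩} :
        Finset ↥(QA ⊓ QB)).card ≤ 4 := by
      rw [← hZcard, Nat.card_eq_fintype_card]; exact Finset.card_le_univ _
    simp [Subtype.ext_iff, Ne.symm sa.w_ne, Ne.symm hc1, Ne.symm hc'1, Ne.symm hcw, Ne.symm hc'w,
      hcc', Ne.symm h.1, Ne.symm h.2.1, Ne.symm h.2.2.1, Ne.symm h.2.2.2] at hle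
  have hcw' : c * w' = c' := by
    rcases hZcases _ (mul_mem hc hwZ) with e | e | e | e
    · exact absurd ((eq_inv_of_mul_eq_one_left e).trans (inv_eq_of_mul_eq_one_left hw2)) hcw
    · exact absurd (mul_eq_right.1 e) hc1
    · exact absurd (mul_eq_left.1 e) sa.w_ne
    · exact e
  -- `D = W_A W_B`
  set D := wOf A ⊔ wOf B with hD
  have hDT : D ≤ T := sup_le sa.W_le sb.W_le
  have hDmem : ∀ d ∈ D, ∃ α ∈ wOf A, ∃ β ∈ wOf B, d = α * β := by
    intro d hd
    rw [hD, ← SetLike.mem_coe,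
      coe_mul_of_right_le_normalizer_left _ _ (sb.W_le.trans sa.le_norm_W)] at hd
    obtain ⟨α, hα, β, hβ, rfl⟩ := hd
    exact ⟨α, hα, β, hβ, rfl⟩
  have hcomm : ∀ α ∈ wOf A, ∀ β ∈ wOf B, α * β = β * α →
      (α = 1 ∨ α = w') ∨ (β = 1 ∨ β = w') := by
    intro α hα β hβ he
    by_contra h
    push Not at h
    have h1 : α ∈ QB := (sb.mem_Q_iff hβ h.2.1 h.2.2 (sa.W_le hα)).2
      (mul_inv_eq_iff_eq_mul.2 he)
    exact (eq_one_or_w_of_central sa hα (f.central ⟨hWA hα, h1⟩)).elim h.1.1 h.1.2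
  have hDsq : ∀ d ∈ D, d * d = 1 ∨ d * d = w' := by
    intro d hd
    obtain ⟨α, hα, β, hβ, rfl⟩ := hDmem d hd
    have e : α * β * (α * β) = (α * β * α⁻¹) * β := by rw [sa.W_inv hα]; group
    rcases sb.conj_W (sa.W_le hα) hβ with h | h
    · left; rw [e, h, sb.W_sq hβ]
    · right
      rw [e, h, mul_assoc, ← sb.W_comm hβ sb.w_mem, ← mul_assoc, sb.W_sq hβ, one_mul]
  have hDinv : ∀ d ∈ D, d * d = 1 → d ∈ wOf A ∨ d ∈ wOf B := by
    intro d hd hd2
    obtain ⟨α, hα, β, hβ, rfl⟩ := hDmem d hd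
    have he : α * β = β * α := by
      rw [← inv_eq_of_mul_eq_one_left hd2, mul_inv_rev, sa.W_inv hα, sb.W_inv hβ]
    rcases hcomm α hα β hβ he with (rfl | rfl) | (rfl | rfl)
    · exact Or.inr (by rwa [one_mul])
    · exact Or.inr (mul_mem sb.w_mem hβ)
    · exact Or.inl (by rwa [mul_one])
    · exact Or.inl (mul_mem hα sa.w_mem)
  have hcD : c ∉ D := fun h => by
    rcases hDinv c h hc2 with h1 | h1
    · exact hcW h1
    · exact (eq_one_or_w_of_central sb h1 (f.central hc)).elim hc1 hcw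
  have hD8 : Nat.card D = 8 := by
    have h1 : 2 * Nat.card ↥(wOf A) ≤ Nat.card ↥D :=
      two_mul_card_le le_sup_left (mem_sup_right hv) fun h => hvA (hWA h).2
    rw [sa.comp.2.2.2.2.1] at h1
    obtain ⟨k, hk⟩ := card_dvd_of_le hDT
    rw [hT16] at hk
    have hk1 : k ≠ 1 := fun e => hcD ((eq_of_le_of_card_ge hDT (by
      rw [hT16, hk, e, mul_one])).ge hc.1.1)
    have hk2 : k ≠ 0 := fun e => by simp [e] at hk
    have := Nat.mul_le_mul_left (Nat.card D) (show 2 ≤ k by omega)
    omega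
  have hidxD : (D.subgroupOf T).index = 2 := by
    have h1 := relIndex_mul_relIndex ⊥ D T bot_le hDT
    rw [relIndex_bot_left, relIndex_bot_left, hD8, hT16] at h1
    show D.relIndex T = 2
    omega
  have hTD : ∀ t ∈ T, t ∈ D ∨ c * t ∈ D := by
    intro t ht
    by_cases h : t ∈ D
    · exact Or.inl h
    · exact Or.inr ((mul_mem_iff_of_index_two hidxD (a := ⟨c, hc.1.1⟩) (b := ⟨t, ht⟩)).2
        ⟨fun h1 => absurd h1 hcD, fun h1 => absurd h1 h⟩)
  have hTsq : ∀ t ∈ T, t * t = 1 ∨ t * t = w' := by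
    intro t ht
    rcases hTD t ht with h | h
    · exact hDsq t h
    · have e : c * t * (c * t) = t * t := by
        calc c * t * (c * t) = c * (t * c) * t := by group
          _ = t * t := by rw [hcT t ht, ← mul_assoc c, hc2, one_mul]
      exact e ▸ hDsq _ h
  -- `N(T)` fixes `w`
  have hNw : ∀ n ∈ normalizer (T : Set G), n * w' * n⁻¹ = w' := by
    intro n hn
    obtain ⟨a, ha, ha1, haw⟩ := sa.exists_gen
    obtain ⟨b, hb, hb1, hbw⟩ := sb.exists_gen
    have hab : a * b * (a * b) = w' := by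
      refine (hDsq _ (mul_mem (mem_sup_left ha) (mem_sup_right hb))).resolve_left fun e => ?_
      have he : a * b = b * a := by
        rw [← inv_eq_of_mul_eq_one_left e, mul_inv_rev, sa.W_inv ha, sb.W_inv hb]
      rcases hcomm a ha b hb he with (h | h) | (h | h) <;> contradiction
    have e : n * (a * b) * n⁻¹ * (n * (a * b) * n⁻¹) = n * w' * n⁻¹ := by
      rw [← hab]; group
    rcases hTsq _ (conj_mem le_rfl hn (mul_mem (sa.W_le ha) (sb.W_le hb))) with h | h
    · exact absurd (conj_eq_one_iff.1 (e ▸ h)) sa.w_ne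
    · exact e ▸ h
  have hconjw : ∀ g : G, g * c * g⁻¹ ≠ w' := by
    intro g hg
    set T' := T.map (MulAut.conj g⁻¹).toMonoidHom with hT'
    have hle : T' ≤ normalizer (A : Set G) := by
      rw [← hC]
      rintro _ ⟨t, ht, rfl⟩
      refine mem_centralizer_singleton_iff.2 ?_
      show g⁻¹ * t * g⁻¹⁻¹ * c = c * (g⁻¹ * t * g⁻¹⁻¹)
      have h1 : t * w' = w' * t := mem_centralizer_iff.1 sa.w_central t ht
      calc g⁻¹ * t * g⁻¹⁻¹ * c = g⁻¹ * (t * (g * c * g⁻¹)) * g := by group
        _ = g⁻¹ * ((g * c * g⁻¹) * t) * g := by rw [hg, h1]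
        _ = c * (g⁻¹ * t * g⁻¹⁻¹) := by group
    have hcard : Nat.card T' = Nat.card T := card_map_of_injective (MulAut.conj g⁻¹).injective
    have hsyl : IsSylowTwoIn T' (normalizer (A : Set G)) := by
      refine ⟨hle, gA.uq.isPGroup.map _, ?_⟩
      have h1 := relIndex_mul_relIndex ⊥ T' _ bot_le hle
      have h2 := relIndex_mul_relIndex ⊥ T _ bot_le gA.le_norm
      rw [relIndex_bot_left, relIndex_bot_left, hcard] at h1
      rw [relIndex_bot_left, relIndex_bot_left] at h2
      rw [Nat.eq_of_mul_eq_mul_left Nat.card_pos (h1.trans h2.symm)]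
      exact gA.uq.mem.1.2.2
    obtain ⟨l, hl, hlT⟩ := exists_conj_sylowTwoIn gA.uq.mem.1 hsyl
    have hlc : l * c * l⁻¹ = c :=
      mul_inv_eq_iff_eq_mul.2 (mem_centralizer_singleton_iff.1 (hC ▸ hl))
    have hn : g * l ∈ normalizer (T : Set G) := by
      refine mem_normalizer_of_map_le ?_
      rintro _ ⟨t, ht, rfl⟩
      obtain ⟨t', ht', e⟩ := hlT.le ⟨t, ht, rfl⟩
      show g * l * t * (g * l)⁻¹ ∈ T
      have e' : g⁻¹ * t' * g⁻¹⁻¹ = l * t * l⁻¹ := e
      rwa [show g * l * t * (g * l)⁻¹ = g * (l * t * l⁻¹) * g⁻¹ by group, ← e',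
        show g * (g⁻¹ * t' * g⁻¹⁻¹) * g⁻¹ = t' by group]
    have e : g * l * c * (g * l)⁻¹ = w' := by
      rw [show g * l * c * (g * l)⁻¹ = g * (l * c * l⁻¹) * g⁻¹ by group, hlc, hg]
    exact hcw ((MulAut.conj (g * l)).injective (e.trans (hNw _ hn).symm))
  have hconjD : ∀ g : G, g * c * g⁻¹ ∉ D := by
    intro g hg
    have h2 : g * c * g⁻¹ * (g * c * g⁻¹) = 1 := sq_conj hc2
    have h1 : g * c * g⁻¹ ≠ 1 := fun e => hc1 (conj_eq_one_iff.1 e)
    have hex : ∃ h : G, h * (g * c * g⁻¹) * h⁻¹ = w' :=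
      (hDinv _ hg h2).elim (fun h => exists_conj_eq_w sa h h1) (fun h => exists_conj_eq_w sb h h1)
    obtain ⟨h, hh⟩ := hex
    exact hconjw (h * g) ((show h * g * c * (h * g)⁻¹ = h * (g * c * g⁻¹) * h⁻¹ by group).trans hh)
  -- `N_S(T)`
  have hswap : ∀ n ∈ (S : Subgroup G), n ∈ normalizer (T : Set G) → n ∉ T →
      n * c * n⁻¹ = c' ∧ n * c' * n⁻¹ = c := by
    intro n hnS hn hnT
    have hz : n * c * n⁻¹ ∈ QA ⊓ QB := by
      refine hZ _ (conj_mem le_rfl hn hc.1.1) (mem_centralizer_iff.2 fun t ht => ?_)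
      have ht' : n⁻¹ * t * n ∈ T := by simpa using conj_mem le_rfl (inv_mem hn) ht
      calc t * (n * c * n⁻¹) = n * ((n⁻¹ * t * n) * c) * n⁻¹ := by group
        _ = n * c * n⁻¹ * t := by rw [hcT _ ht']; group
    have e : n * c * n⁻¹ = c' := by
      rcases hZcases _ hz with e | e | e | e
      · exact absurd (conj_eq_one_iff.1 e) hc1
      · exact absurd e (hconjw n)
      · refine absurd (le_of_le_sylowTwoIn gA.uq.mem.1
          (P := (S : Subgroup G) ⊓ normalizer (A : Set G) ⊓ normalizer (T : Set G))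
          (inf_le_left.trans inf_le_right) (S.isPGroup'.to_le (inf_le_left.trans inf_le_left))
          inf_le_right ⟨⟨hnS, ?_⟩, hn⟩) hnT
        rw [← hC]
        exact mem_centralizer_singleton_iff.2 (mul_inv_eq_iff_eq_mul.1 e)
      · exact e
    refine ⟨e, ?_⟩
    calc n * c' * n⁻¹ = (n * c * n⁻¹) * (n * w' * n⁻¹) := by rw [← hcw']; group
      _ = c := by rw [e, hNw n hn, ← hcw', mul_assoc, hw2, mul_one]
  have hmul : ∀ n ∈ (S : Subgroup G), ∀ m ∈ (S : Subgroup G), n ∈ normalizer (T : Set G) →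
      m ∈ normalizer (T : Set G) → n ∉ T → m ∉ T → n * m ∈ T := by
    intro n hn m hm hnN hmN hnT hmT
    by_contra h
    have h1 := (hswap _ (mul_mem hn hm) (mul_mem hnN hmN) h).1
    rw [show n * m * c * (n * m)⁻¹ = n * (m * c * m⁻¹) * n⁻¹ by group, (hswap m hm hmN hmT).1,
      (hswap n hn hnN hnT).2] at h1
    exact hcc' h1
  have hswapW : ∀ n ∈ (S : Subgroup G), n ∈ normalizer (T : Set G) → n ∉ T →
      (wOf A).map (MulAut.conj n).toMonoidHom = wOf B ∧
        (wOf B).map (MulAut.conj n).toMonoidHom = wOf A := by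
    intro n hnS hn hnT
    obtain ⟨e1, e2⟩ := hswap n hnS hn hnT
    have eT : T.map (MulAut.conj n).toMonoidHom = T := mem_normalizer_iff_map_conj_eq.1 hn
    have key : ∀ {K K' : Subgroup G} {d d' : G}, Good T K → Good T K' →
        centralizer ({d} : Set G) = normalizer (K : Set G) →
        centralizer ({d'} : Set G) = normalizer (K' : Set G) → n * d * n⁻¹ = d' →
        (wOf K).map (MulAut.conj n).toMonoidHom = wOf K' := by
      intro K K' d d' gK gK' hd hd' e
      have h1 := isJComponent_map (MulAut.conj n) gK.uq.comp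
      rw [eT] at h1
      rw [← wOf_map, gK'.only _ h1 ?_]
      rw [← hd']
      rintro _ ⟨k, hk, rfl⟩
      have hk' : k * d = d * k := mem_centralizer_singleton_iff.1 (hd.ge (Subgroup.le_normalizer hk))
      refine mem_centralizer_singleton_iff.2 ?_
      show n * k * n⁻¹ * d' = d' * (n * k * n⁻¹)
      rw [← e]
      calc n * k * n⁻¹ * (n * d * n⁻¹) = n * (k * d) * n⁻¹ := by group
        _ = _ := by rw [hk']; group
    exact ⟨key gA gB hC hC' e1, key gB gA hC' hC e2⟩
  have hnormD : ∀ n ∈ (S : Subgroup G), n ∈ normalizer (T : Set G) →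
      n ∈ normalizer (D : Set G) := by
    intro n hnS hn
    refine mem_normalizer_iff_map_conj_eq.2 ?_
    show D.map (MulAut.conj n).toMonoidHom = D
    rw [hD, Subgroup.map_sup]
    by_cases hnT : n ∈ T
    · rw [show (wOf A).map (MulAut.conj n).toMonoidHom = wOf A from
          mem_normalizer_iff_map_conj_eq.1 (sa.le_norm_W hnT),
        show (wOf B).map (MulAut.conj n).toMonoidHom = wOf B from
          mem_normalizer_iff_map_conj_eq.1 (sb.le_norm_W hnT)]
    · rw [(hswapW n hnS hn hnT).1, (hswapW n hnS hn hnT).2, sup_comm]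
  -- `S` normalises `T`
  have hE : ∀ E : Subgroup G, E ≤ (S : Subgroup G) ⊓ normalizer (T : Set G) →
      (∀ e ∈ E, e * e = 1) → 8 ≤ Nat.card E → E ≤ T := by
    intro E hES hEsq hE8
    by_contra hcon
    obtain ⟨e, he, heT⟩ := SetLike.not_le_iff_exists.1 hcon
    have hF : Nat.card E ≤ 2 * Nat.card ↥(E ⊓ T) := card_le_two_mul inf_le_left
      fun s hs t ht hs' ht' => ⟨mul_mem hs ht, hmul s (hES hs).1 t (hES ht).1 (hES hs).2
        (hES ht).2 (fun h => hs' ⟨hs, h⟩) (fun h => ht' ⟨ht, h⟩)⟩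
    obtain ⟨hAB, hBA⟩ := hswapW e (hES he).1 (hES he).2 heT
    have hfix : ∀ t ∈ E, e * t * e⁻¹ = t := fun t ht => by
      rw [ElemAbelian.comm (ElemAbelian_of_sq hEsq) he ht, mul_inv_cancel_right]
    have hmove : ∀ {K K' : Subgroup G}, (wOf K).map (MulAut.conj e).toMonoidHom = wOf K' →
        E ⊓ T ≤ T ⊓ centralizer (wOf K : Set G) → E ⊓ T ≤ T ⊓ centralizer (wOf K' : Set G) := by
      intro K K' hKK h t ht
      refine ⟨ht.2, mem_centralizer_iff.2 fun β hβ => ?_⟩
      obtain ⟨α, hα, rfl⟩ : β ∈ (wOf K).map (MulAut.conj e).toMonoidHom := hKK.symm ▸ hβ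
      show e * α * e⁻¹ * t = t * (e * α * e⁻¹)
      have h1 : α * t = t * α := mem_centralizer_iff.1 (h ht).2 α hα
      conv_lhs => rw [← hfix t ht.1]
      conv_rhs => rw [← hfix t ht.1]
      calc e * α * e⁻¹ * (e * t * e⁻¹) = e * (α * t) * e⁻¹ := by group
        _ = _ := by rw [h1]; group
    have hFZ : E ⊓ T ≤ QA ⊓ QB := by
      rcases f.le_or_le (inf_le_right : E ⊓ T ≤ T) (fun t ht => hEsq t ht.1) with h | h
      · exact le_inf h (hmove hAB h)
      · exact le_inf (hmove hBA h) h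
    have hcE : c ∈ E ⊓ T := (eq_of_le_of_card_ge hFZ (by rw [hZcard]; omega)).ge hc
    exact hcc' ((hfix c hcE.1).symm.trans (hswap e (hES he).1 (hES he).2 heT).1)
  have hTQ : T ≤ QA ⊔ QB := by
    have hle : QA ⊔ QB ≤ T := sup_le inf_le_left inf_le_left
    obtain ⟨q, hq, hqA⟩ : ∃ q ∈ QB, q ∉ QA := SetLike.not_le_iff_exists.1 fun h =>
      f.ne (eq_of_le_of_card_ge h f.card_eq.le).symm
    have h1 := two_mul_card_le (le_sup_left : QA ≤ QA ⊔ QB) (mem_sup_right hq) hqA
    exact (eq_of_le_of_card_ge hle (by rw [hT16]; omega)).ge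
  have hSN : (S : Subgroup G) ≤ normalizer (T : Set G) := by
    refine (le_of_inf_normalizer_le (P := (S : Subgroup G))
      (U := (S : Subgroup G) ⊓ normalizer (T : Set G)) S.isPGroup' inf_le_left ?_).trans inf_le_right
    rintro g ⟨hgS, hgN⟩
    refine ⟨hgS, mem_normalizer_of_map_le ((map_mono hTQ).trans ?_)⟩
    rw [Subgroup.map_sup]
    have key : ∀ Q : Subgroup G, Q ≤ T → (∀ q ∈ Q, q * q = 1) → Nat.card Q = 8 →
        Q.map (MulAut.conj g).toMonoidHom ≤ T := by
      intro Q hQ hQ2 hQ8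
      refine hE _ ?_ ?_ (by rw [card_map_of_injective (MulAut.conj g).injective, hQ8])
      · exact (map_mono (le_inf (hQ.trans hTS) (hQ.trans Subgroup.le_normalizer))).trans
          (mem_normalizer_iff_map_conj_eq.1 hgN).le
      · rintro _ ⟨q, hq, rfl⟩
        rw [← map_mul, hQ2 q hq, map_one]
    exact sup_le (key QA inf_le_left (fun q hq => by rw [← sq]; exact f.elem_left.2 q hq) h8)
      (key QB inf_le_left (fun q hq => by rw [← sq]; exact f.elem_right.2 q hq)
        (f.card_eq ▸ h8))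
  have hDS : D ≤ (S : Subgroup G) := hDT.trans hTS
  have hidx : Odd (S : Subgroup G).index := by
    rw [← Nat.not_even_iff_odd, even_iff_two_dvd]; exact S.not_dvd_index
  have hdvd : D.relIndex (S : Subgroup G) ∣ 4 := by
    obtain ⟨k, hk⟩ := IsPGroup.iff_card.1 S.isPGroup'
    have hle : Nat.card (S : Subgroup G) ≤ 32 := by
      have := card_le_two_mul hTS fun s hs t ht hs' ht' =>
        hmul s hs t ht (hSN hs) (hSN ht) hs' ht'
      omega
    have hk5 : k ≤ 5 := by
      by_contra h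
      have := Nat.pow_le_pow_right (show 0 < 2 by norm_num) (show 6 ≤ k by omega)
      omega
    have h1 := relIndex_mul_relIndex ⊥ D (S : Subgroup G) bot_le hDS
    rw [relIndex_bot_left, relIndex_bot_left, hD8, hk] at h1
    refine Nat.dvd_of_mul_dvd_mul_left (show 0 < 8 by norm_num) ?_
    rw [h1]
    exact pow_dvd_pow 2 hk5
  -- the subgroup containing `D`, not `c`, and absorbing `c y` for each conjugate `y` of `c` in `S`
  obtain ⟨N, hDN, hNS, hcN, hSN', hall⟩ : ∃ N : Subgroup G, D ≤ N ∧ N ≤ (S : Subgroup G) ∧ c ∉ N ∧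
      (S : Subgroup G) ≤ normalizer (N : Set G) ∧
      ∀ g : G, g * c * g⁻¹ ∈ (S : Subgroup G) → c * (g * c * g⁻¹) ∈ N := by
    by_cases hu : ∃ u ∈ (S : Subgroup G), u ∉ T ∧ u * u = 1
    swap
    · refine ⟨D, le_rfl, hDS, hcD, fun n hn => hnormD n hn (hSN hn), fun g hg => ?_⟩
      have hgT : g * c * g⁻¹ ∈ T := by_contra fun h => hu ⟨_, hg, h, sq_conj hc2⟩
      exact (hTD _ hgT).resolve_left (hconjD g)
    obtain ⟨u, huS, huT, hu2⟩ := hu
    have hui : u⁻¹ = u := inv_eq_of_mul_eq_one_left hu2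
    obtain ⟨huc, huc'⟩ := hswap u huS (hSN huS) huT
    obtain ⟨hAB, hBA⟩ := hswapW u huS (hSN huS) huT
    have huD : u ∈ normalizer (D : Set G) := hnormD u huS (hSN huS)
    have hcS : c ∈ (S : Subgroup G) := hTS hc.1.1
    have hwD : w' ∈ D := mem_sup_left sa.w_mem
    have huw : u * w' * u⁻¹ = w' := hNw u (hSN huS)
    have hucsq : u * c * (u * c) = w' := by
      calc u * c * (u * c) = (u * c * u⁻¹) * (u * u) * c := by group
        _ = w' := by
          rw [huc, hu2, mul_one, ← hcw', ← hcT w' (hDT hwD), mul_assoc, hc2, mul_one]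
    set N := D ⊔ zpowers (u * c) with hN
    have hucN : u * c ∈ N := mem_sup_right (mem_zpowers _)
    have hcu : c * u = u * c * w' := by
      calc c * u = u * (u⁻¹ * c * u) := by group
        _ = u * (u * c * u⁻¹) := by rw [hui]
        _ = u * c * w' := by rw [huc, ← hcw', mul_assoc]
    have hcuN : c * u ∈ N := hcu ▸ mul_mem hucN (mem_sup_left hwD)
    have hNmem : ∀ n ∈ N, n ∈ D ∨ n * (u * c) ∈ D := by
      intro n hn
      have hz : zpowers (u * c) ≤ normalizer (D : Set G) :=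
        zpowers_le.2 (mul_mem huD (hnormD c hcS (hSN hcS)))
      rw [hN, ← SetLike.mem_coe, coe_mul_of_right_le_normalizer_left _ _ hz] at hn
      obtain ⟨d, hd, z, ⟨i, rfl⟩, rfl⟩ := hn
      beta_reduce
      rcases Int.even_or_odd i with ⟨m, rfl⟩ | ⟨m, rfl⟩
      · left
        rw [← two_mul, zpow_mul, zpow_two, hucsq]
        exact D.mul_mem hd (D.zpow_mem hwD m)
      · right
        rw [mul_assoc, ← zpow_add_one, show 2 * m + 1 + 1 = 2 * (m + 1) by ring, zpow_mul,
          zpow_two, hucsq]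
        exact D.mul_mem hd (D.zpow_mem hwD _)
    have hNn : ∀ n ∈ (S : Subgroup G), n * (u * c) * n⁻¹ ∈ N →
        n ∈ normalizer (N : Set G) := by
      intro n hn h
      refine mem_normalizer_of_map_le ?_
      rw [hN, Subgroup.map_sup, MonoidHom.map_zpowers]
      exact sup_le ((mem_normalizer_iff_map_conj_eq.1 (hnormD n hn (hSN hn))).le.trans le_sup_left)
        (zpowers_le.2 h)
    have hcn : c ∈ normalizer (N : Set G) := hNn c hcS (by
      rwa [show c * (u * c) * c⁻¹ = c * u by group])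
    have hun : u ∈ normalizer (N : Set G) := hNn u huS (by
      rwa [show u * (u * c) * u⁻¹ = (u * u) * c * u⁻¹ by group, hu2, one_mul, hui])
    refine ⟨N, le_sup_left, sup_le hDS (zpowers_le.2 (mul_mem huS hcS)), fun h => ?_,
      fun s hs => ?_, fun g hg => ?_⟩
    · rcases hNmem c h with h | h
      · exact hcD h
      · refine huT ?_
        have := T.mul_mem (T.mul_mem (T.inv_mem hc.1.1) (hDT h)) (T.inv_mem hc.1.1)
        rwa [show c⁻¹ * (c * (u * c)) * c⁻¹ = u by group] at this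
    · have hTn : ∀ t ∈ T, t ∈ normalizer (N : Set G) := fun t ht => by
        rcases hTD t ht with h | h
        · exact Subgroup.le_normalizer (le_sup_left (b := zpowers (u * c)) h)
        · have := mul_mem hcn (Subgroup.le_normalizer (H := N) (le_sup_left (b := zpowers (u * c)) h))
          rwa [← mul_assoc, hc2, one_mul] at this
      by_cases hsT : s ∈ T
      · exact hTn s hsT
      · have := mul_mem hun (hTn _ (hmul u huS s hs (hSN huS) (hSN hs) huT hsT))
        rwa [← mul_assoc, hu2, one_mul] at this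
    · set z := g * c * g⁻¹ with hz
      by_cases hzT : z ∈ T
      · exact mem_sup_left ((hTD z hzT).resolve_left (hconjD g))
      have hut := hmul u huS z hg (hSN huS) (hSN hg) huT hzT
      rcases hTD _ hut with h | h
      · have := mul_mem hcuN (mem_sup_left (T := zpowers (u * c)) h)
        rwa [mul_assoc, ← mul_assoc u u, hu2, one_mul] at this
      -- `u c d` is no involution
      exfalso
      set d := c * (u * z) with hd
      have hdT := hDT h
      have hzd : z = u * (c * d) := by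
        rw [hd, ← mul_assoc c, hc2, one_mul, ← mul_assoc, hu2, one_mul]
      set e := u * d * u⁻¹ with he
      have heD : e ∈ D := conj_mem le_rfl huD h
      have hed : e * d = w' := by
        have h1 : z * z = 1 := sq_conj hc2
        have h2 : z * z = w' * (e * d) := by
          calc z * z = u * c * d * u * (c * d) := by rw [hzd]; group
            _ = (u * c * u⁻¹) * e * (u * u) * (c * d) := by rw [he]; group
            _ = c * w' * (e * c) * d := by rw [huc, hu2, ← hcw']; group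
            _ = c * (w' * c) * e * d := by rw [hcT e (hDT heD)]; group
            _ = w' * (e * d) := by
              rw [hcT w' (hDT hwD), ← mul_assoc c c, hc2]; group
        rw [h1] at h2
        rw [eq_inv_of_mul_eq_one_right h2.symm, inv_eq_of_mul_eq_one_left hw2]
      rcases hDsq d h with hd2 | hd2
      · have hew : e = w' * d := by
          rw [← hed, mul_assoc, hd2, mul_one]
        have key : ∀ {K K' : Subgroup G}, w' ∈ wOf K → d ∈ wOf K → wOf K ≤ T ⊓ centralizer (wOf K : Set G) →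
            (wOf K).map (MulAut.conj u).toMonoidHom = wOf K' →
            (∀ v ∈ wOf K, v ∈ wOf K' → v = 1 ∨ v = w') → False := by
          intro K K' hwK hdK _ hKK hmeet
          have h1 : e ∈ wOf K' := hKK ▸ ⟨d, hdK, rfl⟩
          rcases hmeet e (hew ▸ mul_mem hwK hdK) h1 with he1 | he1
          · have hdw : d = w' := by
              rw [hew] at he1
              exact (eq_inv_of_mul_eq_one_right he1).trans (inv_eq_of_mul_eq_one_left hw2)
            rw [he, hdw, huw] at he1
            exact sa.w_ne he1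
          · have hd1 : d = 1 := by
              rw [hew] at he1
              exact mul_eq_left.1 he1
            rw [he, hd1, mul_one, mul_inv_cancel] at he1
            exact sa.w_ne he1.symm
        have hmeet : ∀ v ∈ wOf A, v ∈ wOf B → v = 1 ∨ v = w' := fun v hv hv' =>
          eq_one_or_w_of_central sa hv (f.central ⟨hWA hv, hWB hv'⟩)
        rcases hDinv d h hd2 with hd' | hd'
        · exact key sa.w_mem hd' hWA hAB hmeet
        · exact key sb.w_mem hd' hWB hBA fun v hv hv' => hmeet v hv' hv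
      · have hfixd : e = d := mul_right_cancel (hed.trans hd2.symm)
        obtain ⟨α, hα, β, hβ, hαβ⟩ := hDmem d h
        have hnc2 : ¬ ((α = 1 ∨ α = w') ∨ (β = 1 ∨ β = w')) := by
          intro hcase
          have : d ∈ wOf A ∨ d ∈ wOf B := by
            rw [hαβ]
            rcases hcase with (rfl | rfl) | (rfl | rfl)
            · exact Or.inr (by rwa [one_mul])
            · exact Or.inr (mul_mem sb.w_mem hβ)
            · exact Or.inl (by rwa [mul_one])
            · exact Or.inl (mul_mem hα sa.w_mem)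
          exact sa.w_ne (hd2.symm.trans (this.elim (fun h => sa.W_sq h) (fun h => sb.W_sq h)))
        push Not at hnc2
        obtain ⟨⟨hα1, hαw⟩, hβ1, hβw⟩ := hnc2
        have hα' : u * α * u⁻¹ ∈ wOf B := hAB ▸ ⟨α, hα, rfl⟩
        have hβ' : u * β * u⁻¹ ∈ wOf A := hBA ▸ ⟨β, hβ, rfl⟩
        have huu : ∀ z, u * (u * z * u⁻¹) * u⁻¹ = z := fun z => by
          calc u * (u * z * u⁻¹) * u⁻¹ = (u * u) * z * (u * u)⁻¹ := by group
            _ = z := by rw [hu2, inv_one, one_mul, mul_one]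
        have hprod : α * β = (u * α * u⁻¹) * (u * β * u⁻¹) := by
          rw [← hαβ]
          conv_lhs => rw [← hfixd, he, hαβ]
          group
        rcases sb.W_cases hβ hβ1 hβw hα' with e1 | e1 | e1 | e1
        · exact hα1 (conj_eq_one_iff.1 e1)
        · exact hαw ((MulAut.conj u).injective (e1.trans huw.symm))
        · have e2 : u * β * u⁻¹ = α := by rw [← e1, huu]
          rw [e1, e2] at hprod
          exact (hcomm α hα β hβ hprod).elim (fun h => h.elim hα1 hαw) (fun h => h.elim hβ1 hβw)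
        · have e2 : u * β * u⁻¹ = α * w' := by
            have h1 : β = (u * α * u⁻¹) * w' := by rw [e1, mul_assoc, hw2, mul_one]
            calc u * β * u⁻¹ = (u * (u * α * u⁻¹) * u⁻¹) * (u * w' * u⁻¹) := by rw [h1]; group
              _ = α * w' := by rw [huu, huw]
          rw [e1, e2, sa.W_comm hα sa.w_mem, mul_assoc β, ← mul_assoc w' w', hw2, one_mul] at hprod
          exact (hcomm α hα β hβ hprod).elim (fun h => h.elim hα1 hαw) (fun h => h.elim hβ1 hβw)
  have hn : (N.subgroupOf (S : Subgroup G)).Normal := normal_subgroupOf_of_le_normalizer hSN'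
  refine notMem_closure_odd (S : Subgroup G) hidx (N.subgroupOf (S : Subgroup G)) ?_ hc2
    (hTS hc.1.1) (fun h => hcN h) fun g h => ?_
  · exact (show N.relIndex (S : Subgroup G) ∣ D.relIndex (S : Subgroup G) from
      ⟨_, by rw [mul_comm]; exact (relIndex_mul_relIndex D N _ hDN hNS).symm⟩).trans hdvd
  · show c⁻¹ * (g⁻¹ * c * g) ∈ N
    have := hall g⁻¹ (by rwa [inv_inv])
    rw [inv_inv] at this
    rwa [hci]

end Cfsg.Agent.Lib.JComp78
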